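import Mathlib
import Cfsg.Agent.Lib.helper6.PermChar6

/-!
# Project W2P (S0720, Wielandt's theorem on primitive groups of degree `2p`) : definitions

See `PLAN_MATH.md` (complete paper proof) and `PLAN.md` / `Skel.lean.txt` (the pieces) in this folder.
-/

set_option autoImplicit false
open scoped ComplexConjugate
open Classical

namespace Cfsg.Agent.Lib.Lead.W2P

open MulAction Cfsg.Agent.Lib.helper6.PermChar

universe u v

section defs

variable {G : Type u} [Group G]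

/-- `φ : G → ℂ` restricted to the subgroup `P` is a homomorphism to `ℂ` ("a linear character of `P`", the values
of `φ` outside `P` are irrelevant). -/
structure IsPChar (P : Subgroup G) (φ : G → ℂ) : Prop where
  one : φ 1 = 1
  mul : ∀ x ∈ P, ∀ y ∈ P, φ (x * y) = φ x * φ y

/-- `f = |N_G(P) : C_G(P)|` -/
noncomputable def fIdx (P : Subgroup G) : ℕ :=
  (Subgroup.centralizer (P : Set G)).relIndex (Subgroup.normalizer (P : Set G))

variable [Fintype G]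

/-- the sum of the `N_G(P)`-orbit of the linear character `φ` of `P`, as a function on `G` (used on `P` only):
`per P φ x = |C_G(P)|⁻¹ ∑_{n ∈ N_G(P)} φ (n⁻¹ x n)`. -/
noncomputable def per (P : Subgroup G) (φ : G → ℂ) (x : G) : ℂ :=
  (Nat.card (Subgroup.centralizer (P : Set G)) : ℂ)⁻¹ *
    ∑ n : ↥(Subgroup.normalizer (P : Set G)), φ ((n : G)⁻¹ * x * (n : G))

/-- type (b): `χ` is constant (an integer) on `P ∖ 1` -/
def TypeB (P : Subgroup G) (χ : G → ℂ) : Prop :=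
  ∃ c : ℤ, ∀ x ∈ P, x ≠ 1 → χ x = (c : ℂ)

/-- type (c): on `P ∖ 1`, `χ` is an integer multiple of an orbit sum of a non-trivial linear character of `P`,
and `χ` has a partner `χ' ≠ χ` which agrees with `χ` on the `p`-regular elements and has the same sum over `P`. -/
def TypeC (p : ℕ) (P : Subgroup G) (χ : Cfsg.IrrCharacter G) : Prop :=
  ∃ (c : ℤ) (φ : G → ℂ), c ≠ 0 ∧ IsPChar P φ ∧ (∃ x ∈ P, φ x ≠ 1) ∧
    (∀ x ∈ P, x ≠ 1 → (χ : G → ℂ) x = (c : ℂ) * per P φ x) ∧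
    ∃ χ' : Cfsg.IrrCharacter G, χ' ≠ χ ∧
      (∀ g : G, ¬ p ∣ orderOf g → (χ' : G → ℂ) g = (χ : G → ℂ) g) ∧
      ∑ x : ↥P, (χ' : G → ℂ) (x : G) = ∑ x : ↥P, (χ : G → ℂ) (x : G)

variable {Ω : Type v} [Fintype Ω] [DecidableEq Ω] [MulAction G Ω]

/-- the subdegree of the orbital of `(a, b)` -/
noncomputable def sdeg (G : Type u) [Group G] {Ω : Type v} [MulAction G Ω] (a b : Ω) : ℕ :=
  Nat.card (orbit (stabilizer G a) b)

/-- the standing hypotheses after the Jordan step: `G` primitive and faithful of degree `2p`, `p` odd, not doubly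
transitive, every element of order `p` fixed point free, `P` a Sylow `p`-subgroup (then `|P| = p`). -/
structure Setting (G : Type u) [Group G] [Fintype G] (Ω : Type v) [Fintype Ω] [DecidableEq Ω] [MulAction G Ω]
    (p : ℕ) (P : Sylow p G) : Prop where
  prim : IsPreprimitive G Ω
  faithful : FaithfulSMul G Ω
  card : Fintype.card Ω = 2 * p
  odd : p ≠ 2
  not2 : ¬ IsMultiplyPretransitive G Ω 2
  fpf : ∀ g : G, orderOf g = p → ∀ ω : Ω, g • ω ≠ ω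
  cardP : Nat.card (P : Subgroup G) = p

/-- the GOOD outcome: rank 3 character `1 + χ₁ + χ₂` with degrees `p - 1`, `p` -/
def Good (G : Type u) [Group G] [Fintype G] (Ω : Type v) [Fintype Ω] [DecidableEq Ω] [MulAction G Ω]
    (p : ℕ) : Prop :=
  ∃ χ₁ χ₂ : Cfsg.IrrCharacter G, χ₁ ≠ χ₂ ∧ χ₁ ≠ Cfsg.Agent.Lib.Helper25.trivIrr G ∧
    χ₂ ≠ Cfsg.Agent.Lib.Helper25.trivIrr G ∧
    (∀ g : G, piChar G Ω g = 1 + (χ₁ : G → ℂ) g + (χ₂ : G → ℂ) g) ∧
    (χ₁ : G → ℂ) 1 = (p : ℂ) - 1 ∧ (χ₂ : G → ℂ) 1 = (p : ℂ)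

/-- the BAD outcome (to be refuted): `π = 1 + χ_p + ∑_{χ ∈ J} χ`, `|J| ≥ 2`, all members of `J` of degree
`f = |N:C|` with `∑_J |χ(x)|² = p - f` on `P ∖ 1`, and `χ_p` vanishing on `P ∖ 1`. -/
def Bad (G : Type u) [Group G] [Fintype G] (Ω : Type v) [Fintype Ω] [DecidableEq Ω] [MulAction G Ω]
    (p : ℕ) (P : Subgroup G) : Prop :=
  ∃ (χp : Cfsg.IrrCharacter G) (J : Finset (Cfsg.IrrCharacter G)),
    2 ≤ J.card ∧ χp ∉ J ∧ Cfsg.Agent.Lib.Helper25.trivIrr G ∉ J ∧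
    χp ≠ Cfsg.Agent.Lib.Helper25.trivIrr G ∧
    (∀ g : G, piChar G Ω g = 1 + (χp : G → ℂ) g + ∑ χ ∈ J, (χ : G → ℂ) g) ∧
    (χp : G → ℂ) 1 = (p : ℂ) ∧ (∀ x ∈ P, x ≠ 1 → (χp : G → ℂ) x = 0) ∧
    (∀ χ ∈ J, (χ : G → ℂ) 1 = (fIdx P : ℂ)) ∧
    (∀ χ ∈ J, ∑ x : ↥P, (χ : G → ℂ) (x : G) = 0) ∧
    (∀ x ∈ P, x ≠ 1 → ∑ χ ∈ J, (χ : G → ℂ) x * conj ((χ : G → ℂ) x) = (p : ℂ) - (fIdx P : ℂ))

end defs

end Cfsg.Agent.Lib.Lead.W2P
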