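import Mathlib

/-!
# Project W2P : ARITH (the arithmetic core of the BAD case)
-/

set_option autoImplicit false

namespace Cfsg.Agent.Lib.Lead.W2P

theorem w2parith_cancel_b (d c a m : ℕ) (hd : 0 < d)
    (h : (m * d) * ((d * c + 1) + d * a) = 2 * ((d * c + 1) * (d * a))) :
    m * ((d * c + 1) + d * a) = 2 * ((d * c + 1) * a) := by
  have h1 : d * (m * ((d * c + 1) + d * a)) = d * (2 * ((d * c + 1) * a)) := by
    have e1 : d * (m * ((d * c + 1) + d * a)) = (m * d) * ((d * c + 1) + d * a) := by ring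
    have e2 : d * (2 * ((d * c + 1) * a)) = 2 * ((d * c + 1) * (d * a)) := by ring
    rw [e1, e2, h]
  exact Nat.eq_of_mul_eq_mul_left hd h1

theorem w2parith_cancel_b' (d c a m : ℕ) (hd : 0 < d)
    (h : (m * d) * (d * a + (d * c + 1)) = 2 * ((d * a) * (d * c + 1))) :
    m * ((d * c + 1) + d * a) = 2 * ((d * c + 1) * a) := by
  apply w2parith_cancel_b d c a m hd
  have e1 : (m * d) * ((d * c + 1) + d * a) = (m * d) * (d * a + (d * c + 1)) := by ring
  have e2 : 2 * ((d * c + 1) * (d * a)) = 2 * ((d * a) * (d * c + 1)) := by ring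
  rw [e1, e2, h]

theorem w2parith_cancel_12 (d a1 a2 m : ℕ) (hd : 0 < d)
    (h : (m * d) * (d * a1 + d * a2) = 2 * ((d * a1) * (d * a2))) :
    m * (a1 + a2) = 2 * (a1 * a2) := by
  have h1 : (d * d) * (m * (a1 + a2)) = (d * d) * (2 * (a1 * a2)) := by
    have e1 : (d * d) * (m * (a1 + a2)) = (m * d) * (d * a1 + d * a2) := by ring
    have e2 : (d * d) * (2 * (a1 * a2)) = 2 * ((d * a1) * (d * a2)) := by ring
    rw [e1, e2, h]
  exact Nat.eq_of_mul_eq_mul_left (Nat.mul_pos hd hd) h1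

/-- parametrized core: `e = m d`, `m ∈ {1, 2}`, `nb = d c + 1`, `n1 = d a1`, `n2 = d a2` -/
theorem w2parith_param (d m c a1 a2 : ℕ) (hd : 0 < d) (hm : m = 1 ∨ m = 2) (he : 2 ≤ m * d)
    (hc : 1 ≤ c) (ha1 : 1 ≤ a1) (ha2 : 1 ≤ a2) (hsum : c + a1 + a2 = 4 * m)
    (hb : d * c + 1 = 2 * (m * d) ∨
      (m * d) * ((d * c + 1) + d * a1) = 2 * ((d * c + 1) * (d * a1)) ∨
      (m * d) * ((d * c + 1) + d * a2) = 2 * ((d * c + 1) * (d * a2)))
    (h1 : d * a1 = 2 * (m * d) ∨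
      (m * d) * (d * a1 + (d * c + 1)) = 2 * ((d * a1) * (d * c + 1)) ∨
      (m * d) * (d * a1 + d * a2) = 2 * ((d * a1) * (d * a2)))
    (h2 : d * a2 = 2 * (m * d) ∨
      (m * d) * (d * a2 + (d * c + 1)) = 2 * ((d * a2) * (d * c + 1)) ∨
      (m * d) * (d * a2 + d * a1) = 2 * ((d * a2) * (d * a1))) :
    m * d = 4 := by
  have hb' : d * c + 1 = 2 * (m * d) ∨ m * ((d * c + 1) + d * a1) = 2 * ((d * c + 1) * a1) ∨
      m * ((d * c + 1) + d * a2) = 2 * ((d * c + 1) * a2) := by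
    rcases hb with h | h | h
    · exact Or.inl h
    · exact Or.inr (Or.inl (w2parith_cancel_b d c a1 m hd h))
    · exact Or.inr (Or.inr (w2parith_cancel_b d c a2 m hd h))
  have h1' : a1 = 2 * m ∨ m * ((d * c + 1) + d * a1) = 2 * ((d * c + 1) * a1) ∨
      m * (a1 + a2) = 2 * (a1 * a2) := by
    rcases h1 with h | h | h
    · left
      have : d * a1 = d * (2 * m) := by rw [h]; ring
      exact Nat.eq_of_mul_eq_mul_left hd this
    · exact Or.inr (Or.inl (w2parith_cancel_b' d c a1 m hd h))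
    · exact Or.inr (Or.inr (w2parith_cancel_12 d a1 a2 m hd h))
  have h2' : a2 = 2 * m ∨ m * ((d * c + 1) + d * a2) = 2 * ((d * c + 1) * a2) ∨
      m * (a2 + a1) = 2 * (a2 * a1) := by
    rcases h2 with h | h | h
    · left
      have : d * a2 = d * (2 * m) := by rw [h]; ring
      exact Nat.eq_of_mul_eq_mul_left hd this
    · exact Or.inr (Or.inl (w2parith_cancel_b' d c a2 m hd h))
    · exact Or.inr (Or.inr (w2parith_cancel_12 d a2 a1 m hd h))
  clear hb h1 h2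
  rcases hm with rfl | rfl
  · -- m = 1
    have hc3 : c ≤ 2 := by omega
    have ha13 : a1 ≤ 2 := by omega
    have ha23 : a2 ≤ 2 := by omega
    interval_cases c <;> interval_cases a1 <;> interval_cases a2 <;> omega
  · -- m = 2
    have hc3 : c ≤ 6 := by omega
    have ha13 : a1 ≤ 6 := by omega
    have ha23 : a2 ≤ 6 := by omega
    interval_cases c <;> interval_cases a1 <;> interval_cases a2 <;> omega

/-- the core with named subdegrees: `nb` is the suborbit containing `β` -/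
theorem w2parith_named (e d nb n1 n2 : ℕ) (he : 2 ≤ e) (hd : d = e ∨ 2 * d = e)
    (hnb : 2 ≤ nb) (hn1 : 2 ≤ n1) (hn2 : 2 ≤ n2) (hsum : nb + n1 + n2 = 4 * e + 1)
    (hmb : nb % d = 1 % d) (hm1 : n1 % d = 0) (hm2 : n2 % d = 0)
    (hb : nb = 2 * e ∨ e * (nb + n1) = 2 * (nb * n1) ∨ e * (nb + n2) = 2 * (nb * n2))
    (h1 : n1 = 2 * e ∨ e * (n1 + nb) = 2 * (n1 * nb) ∨ e * (n1 + n2) = 2 * (n1 * n2))
    (h2 : n2 = 2 * e ∨ e * (n2 + nb) = 2 * (n2 * nb) ∨ e * (n2 + n1) = 2 * (n2 * n1)) : e = 4 := by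
  have hdpos : 0 < d := by rcases hd with h | h <;> omega
  obtain ⟨m, hm, hem⟩ : ∃ m : ℕ, (m = 1 ∨ m = 2) ∧ e = m * d := by
    rcases hd with h | h
    · exact ⟨1, Or.inl rfl, by omega⟩
    · exact ⟨2, Or.inr rfl, by omega⟩
  obtain ⟨a1, rfl⟩ : d ∣ n1 := Nat.dvd_of_mod_eq_zero hm1
  obtain ⟨a2, rfl⟩ : d ∣ n2 := Nat.dvd_of_mod_eq_zero hm2
  obtain ⟨c, hc⟩ : d ∣ nb - 1 := Nat.dvd_of_mod_eq_zero (Nat.sub_mod_eq_zero_of_mod_eq hmb)
  have hnbc : nb = d * c + 1 := by omega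
  subst hnbc
  subst hem
  have hc1 : 1 ≤ c := by
    rcases Nat.eq_zero_or_pos c with h | h
    · subst h; simp at hnb
    · exact h
  have ha1 : 1 ≤ a1 := by
    rcases Nat.eq_zero_or_pos a1 with h | h
    · subst h; simp at hn1
    · exact h
  have ha2 : 1 ≤ a2 := by
    rcases Nat.eq_zero_or_pos a2 with h | h
    · subst h; simp at hn2
    · exact h
  have hs : c + a1 + a2 = 4 * m := by
    have : d * (c + a1 + a2) = d * (4 * m) := by
      have e1 : d * (c + a1 + a2) + 1 = d * c + 1 + d * a1 + d * a2 := by ring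
      have e2 : d * (4 * m) = 4 * (m * d) := by ring
      omega
    exact Nat.eq_of_mul_eq_mul_left hdpos this
  exact w2parith_param d m c a1 a2 hdpos hm he hc1 ha1 ha2 hs hb h1 h2

theorem w2parith_all : ∀ i j l : Fin 3, i ≠ j → i ≠ l → j ≠ l → ∀ k : Fin 3, k = i ∨ k = j ∨ k = l := by
  decide

theorem w2parith_sum (n : Fin 3 → ℕ) : ∀ i j l : Fin 3, i ≠ j → i ≠ l → j ≠ l →
    n i + n j + n l = n 0 + n 1 + n 2 := by
  intro i j l
  fin_cases i <;> fin_cases j <;> fin_cases l <;> simp <;> omega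

theorem w2parith_lp (e : ℕ) (n : Fin 3 → ℕ)
    (hlp : ∀ i, n i = 2 * e ∨ ∃ k, k ≠ i ∧ e * (n i + n k) = 2 * (n i * n k)) (i j l : Fin 3)
    (hall : ∀ k : Fin 3, k = i ∨ k = j ∨ k = l) :
    n i = 2 * e ∨ e * (n i + n j) = 2 * (n i * n j) ∨ e * (n i + n l) = 2 * (n i * n l) := by
  rcases hlp i with h | ⟨k, hk, h⟩
  · exact Or.inl h
  · rcases hall k with rfl | rfl | rfl
    · exact absurd rfl hk
    · exact Or.inr (Or.inl h)
    · exact Or.inr (Or.inr h)

/-- ARITH : the arithmetic core -/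
theorem arith_core (e d : ℕ) (n : Fin 3 → ℕ) (iβ : Fin 3) (he : 2 ≤ e) (hd : d = e ∨ 2 * d = e)
    (hn : ∀ i, 2 ≤ n i) (hsum : n 0 + n 1 + n 2 = 4 * e + 1)
    (hmod : ∀ i, n i % d = if i = iβ then 1 % d else 0)
    (hlp : ∀ i, n i = 2 * e ∨ ∃ k, k ≠ i ∧ e * (n i + n k) = 2 * (n i * n k)) : e = 4 := by
  have key : ∀ i j l : Fin 3, i ≠ j → i ≠ l → j ≠ l → iβ = i → e = 4 := by
    intro i j l hij hil hjl hi
    have hall : ∀ k : Fin 3, k = i ∨ k = j ∨ k = l := w2parith_all i j l hij hil hjl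
    have hall2 : ∀ k : Fin 3, k = j ∨ k = i ∨ k = l := fun k => by
      rcases hall k with h | h | h <;> simp [h]
    have hall3 : ∀ k : Fin 3, k = l ∨ k = i ∨ k = j := fun k => by
      rcases hall k with h | h | h <;> simp [h]
    have hs : n i + n j + n l = 4 * e + 1 := by
      have : n i + n j + n l = n 0 + n 1 + n 2 := w2parith_sum n i j l hij hil hjl
      omega
    refine w2parith_named e d (n i) (n j) (n l) he hd (hn i) (hn j) (hn l) hs ?_ ?_ ?_
      (w2parith_lp e n hlp i j l hall) (w2parith_lp e n hlp j i l hall2) (w2parith_lp e n hlp l i j hall3)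
    · rw [hmod i, if_pos hi.symm]
    · rw [hmod j, if_neg (fun h => hij (hi ▸ h).symm)]
    · rw [hmod l, if_neg (fun h => hil (hi ▸ h).symm)]
  fin_cases iβ
  · exact key 0 1 2 (by decide) (by decide) (by decide) rfl
  · exact key 1 0 2 (by decide) (by decide) (by decide) rfl
  · exact key 2 0 1 (by decide) (by decide) (by decide) rfl

end Cfsg.Agent.Lib.Lead.W2P
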