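import Mathlib
import Cfsg.Agent.Lib.Lead.W2P.Defs
import Cfsg.Agent.Lib.Lead.W2P.Arith
import Cfsg.Agent.Lib.Helper24.W2PBADTWO
import Cfsg.Agent.Lib.helper6.W2PBADRANK
import Cfsg.Agent.Lib.Helper24.W2PFOURORB
import Cfsg.Agent.Lib.Helper24.W2PSEMIREG
import Cfsg.Agent.Lib.Helper10.W2PEFIX
import Cfsg.Agent.Lib.Helper10.W2PECARD
import Cfsg.Agent.Lib.Helper10.W2PLOOPPARTNER
import Cfsg.Agent.Lib.helper23.W2PSDEGINV

/-!
# Project W2P : BADFALSE (the BAD case is impossible)
-/

set_option autoImplicit false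
set_option linter.unusedVariables false
set_option linter.unusedSectionVars false
open scoped ComplexConjugate
open Classical

namespace Cfsg.Agent.Lib.Lead.W2P

open MulAction Cfsg.Agent.Lib.helper6.PermChar Cfsg.Agent.Lib.Helper25

universe u v

section E

variable {G : Type u} [Group G] [Fintype G] {Ω : Type v} [Fintype Ω] [DecidableEq Ω] [MulAction G Ω]
  {p : ℕ} [Fact p.Prime] {P : Sylow p G}

/-- BADFALSE (assembly) -/
theorem bad_false (S : Setting G Ω p P) (hbad : Bad G Ω p (P : Subgroup G)) (a : Ω) : False := by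
  haveI := S.prim.toIsPretransitive
  obtain ⟨hf, hf2⟩ := bad_two S hbad
  have hrank := bad_rank S hbad hf a
  obtain ⟨b, hba, hbne, hbcov, hbsum⟩ := four_orbits (G := G) a hrank
  obtain ⟨β, hβa, hβfix, hβsemi⟩ := E_fix S a
  have hcardE := card_E S a
  obtain ⟨iβ, hiβ⟩ := hbcov β hβa
  have hiβ' : β ∈ orbit (stabilizer G a) (b iβ) := (orbRel_base a (b iβ) β).mp hiβ
  have hmod : ∀ i, sdeg G a (b i) %
      Nat.card ↥(stabilizer G a ⊓ Subgroup.normalizer ((P : Subgroup G) : Set G)) =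
      if i = iβ then
        1 % Nat.card ↥(stabilizer G a ⊓ Subgroup.normalizer ((P : Subgroup G) : Set G)) else 0 := by
    intro i
    rw [sdeg_mod a β hβa _ inf_le_left hβfix hβsemi (b i) (hba i)]
    by_cases hi : i = iβ
    · rw [if_pos hi, if_pos]
      rw [hi, MulAction.orbit_eq_iff.mpr hiβ']
      exact mem_orbit_self _
    · rw [if_neg hi, if_neg]
      intro hmem
      apply hbne iβ i (Ne.symm hi)
      rw [orbRel_base, ← MulAction.orbit_eq_iff.mpr hiβ']
      exact hmem
  have hlp : ∀ i, sdeg G a (b i) = 2 * fIdx (P : Subgroup G) ∨ ∃ k, k ≠ i ∧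
      fIdx (P : Subgroup G) * (sdeg G a (b i) + sdeg G a (b k)) =
        2 * (sdeg G a (b i) * sdeg G a (b k)) := by
    intro i
    rcases loop_or_partner S hbad a (b i) (hba i) with h | ⟨b', hb'a, hb'n, hb'eq⟩
    · exact Or.inl h
    · right
      obtain ⟨k, hk⟩ := hbcov b' hb'a
      refine ⟨k, ?_, ?_⟩
      · rintro rfl
        exact hb'n hk
      · have : sdeg G a b' = sdeg G a (b k) := sdeg_eq_of_orbRel a (b k) a b' hk
        rw [← this]
        exact hb'eq
  have hcard := S.card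
  have hn : ∀ i, 2 ≤ sdeg G a (b i) := fun i =>
    orbit_card_ge_two S.prim a (b i) (hba i) (by rw [hrank, hcard]; omega)
  have hsum : sdeg G a (b 0) + sdeg G a (b 1) + sdeg G a (b 2) = 4 * fIdx (P : Subgroup G) + 1 := by
    rw [hcard] at hbsum
    omega
  have he4 := arith_core (fIdx (P : Subgroup G))
    (Nat.card ↥(stabilizer G a ⊓ Subgroup.normalizer ((P : Subgroup G) : Set G)))
    (fun i => sdeg G a (b i)) iβ hf2 hcardE hn hsum hmod hlp
  have hp9 : p = 9 := by omega
  have hp := (Fact.out : p.Prime)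
  rw [hp9] at hp
  norm_num at hp

end E

end Cfsg.Agent.Lib.Lead.W2P
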