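import Mathlib
import Cfsg.Agent.Lib.Lead.W2P.Defs
import Cfsg.Agent.S0719

/-!
# Project W2P : GOODFIN (the GOOD case, by S0719)
-/

set_option autoImplicit false
set_option linter.unusedVariables false
set_option linter.unusedSectionVars false
open scoped ComplexConjugate
open Classical

namespace Cfsg.Agent.Lib.Lead.W2P

open MulAction Cfsg.Agent.Lib.helper6.PermChar Cfsg.Agent.Lib.Helper25

universe u v

section F

variable {G : Type u} [Group G] [Fintype G] {Ω : Type v} [Fintype Ω] [DecidableEq Ω] [MulAction G Ω]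
  {p : ℕ} [Fact p.Prime] {P : Sylow p G}

/-- GOODFIN : the GOOD case, by S0719 -/
theorem good_finish (S : Setting G Ω p P) (hgood : Good G Ω p) (a₀ : Ω) :
    Nat.card (orbitRel.Quotient (stabilizer G a₀) Ω) = 3 ∧ ∃ a : ℕ, 0 < a ∧ p = 2 * a ^ 2 + 2 * a + 1 ∧
      ∀ b : Ω, b ≠ a₀ → Nat.card (orbit (stabilizer G a₀) b) = a * (2 * a + 1) ∨
        Nat.card (orbit (stabilizer G a₀) b) = (a + 1) * (2 * a + 1) := by
  obtain ⟨χ₁, χ₂, h12, h1t, h2t, hπ, hd1, hd2⟩ := hgood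
  haveI := S.prim.toIsPretransitive
  have hπ' : ∀ g, piChar G Ω g = (trivIrr G : G → ℂ) g + (χ₁ : G → ℂ) g + (χ₂ : G → ℂ) g := by
    intro g
    rw [hπ g, trivIrr_apply]
  have m0 := mult3_0 (trivIrr G) χ₁ χ₂ hπ' (Ne.symm h1t) (Ne.symm h2t)
  have m1 := mult3_1 (trivIrr G) χ₁ χ₂ hπ' (Ne.symm h1t) h12
  have m2 := mult3_2 (trivIrr G) χ₁ χ₂ hπ' (Ne.symm h2t) h12
  have hrankC : Cfsg.classInner (piChar G Ω) (piChar G Ω) = 3 := by
    have e : Cfsg.classInner (piChar G Ω) (piChar G Ω) =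
        Cfsg.classInner ((trivIrr G : G → ℂ) + (χ₁ : G → ℂ) + (χ₂ : G → ℂ)) (piChar G Ω) := by
      congr 1
      exact funext hπ'
    rw [e, classInner_add_left, classInner_add_left,
      classInner_conj_symm (piChar G Ω) (trivIrr G : G → ℂ),
      classInner_conj_symm (piChar G Ω) (χ₁ : G → ℂ),
      classInner_conj_symm (piChar G Ω) (χ₂ : G → ℂ), m0, m1, m2]
    simp
    norm_num
  have hrank : Nat.card (orbitRel.Quotient (stabilizer G a₀) Ω) = 3 := by
    have h := inner_pi_pi (G := G) (Ω := Ω) a₀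
    rw [hrankC] at h
    have h' : ((3 : ℕ) : ℂ) = (Nat.card (orbitRel.Quotient (stabilizer G a₀) Ω) : ℂ) := by
      rw [← h]; norm_num
    exact (Nat.cast_injective h').symm
  refine ⟨hrank, ?_⟩
  exact Cfsg.Agent.S0719.result S.prim S.card a₀ hrank (χ₁ : G → ℂ) (χ₂ : G → ℂ) χ₁.2 χ₂.2
    (funext hπ) hd1 hd2

end F

end Cfsg.Agent.Lib.Lead.W2P
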