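import Mathlib
import Cfsg.Agent.Lib.Lead.W2P.Defs
import Cfsg.Agent.Lib.Lead.W2P.BadFalse
import Cfsg.Agent.Lib.Lead.W2P.GoodFin
import Cfsg.Agent.Lib.Helper22.W2PFOUR
import Cfsg.Agent.Lib.Helper22.W2PJORDAN
import Cfsg.Agent.Lib.Helper16.W2PSYL
import Cfsg.Agent.Lib.Helper27.W2PCLASSIFY
import Cfsg.Agent.Lib.Helper24.W2PGOODBAD

/-!
# Project W2P : the theorem of Wielandt on primitive groups of degree `2p` (S0720)
-/

set_option autoImplicit false
set_option linter.unusedVariables false
set_option linter.unusedSectionVars false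
open scoped ComplexConjugate
open Classical

namespace Cfsg.Agent.Lib.Lead.W2P

open MulAction Cfsg.Agent.Lib.helper6.PermChar Cfsg.Agent.Lib.Helper25

/-- the theorem (statement of S0720) -/
theorem s0720 {α : Type*} [Fintype α] [DecidableEq α] {p : ℕ} (hp : p.Prime)
    (hα : Fintype.card α = 2 * p) (G : Subgroup (Equiv.Perm α)) (hG : MulAction.IsPreprimitive G α)
    (a₀ : α) :
    MulAction.IsMultiplyPretransitive G α 2 ∨
      (Nat.card (MulAction.orbitRel.Quotient (MulAction.stabilizer G a₀) α) = 3 ∧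
        ∃ a : ℕ, 0 < a ∧ p = 2 * a ^ 2 + 2 * a + 1 ∧ ∀ b : α, b ≠ a₀ →
          Nat.card (MulAction.orbit (MulAction.stabilizer G a₀) b) = a * (2 * a + 1) ∨
          Nat.card (MulAction.orbit (MulAction.stabilizer G a₀) b) = (a + 1) * (2 * a + 1)) := by
  by_cases h2 : IsMultiplyPretransitive G α 2
  · exact Or.inl h2
  right
  haveI : Fact p.Prime := ⟨hp⟩
  have hodd : p ≠ 2 := fun h => h2 (four_two_trans (by rw [hα, h]) G hG)
  have hfpf : ∀ g : G, orderOf g = p → ∀ ω : α, g • ω ≠ ω :=
    fun g hg ω hω => h2 (jordan_two_trans hp hodd hα G hG g hg ω hω)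
  haveI : Fintype G := Fintype.ofFinite _
  have P : Sylow p G := default
  have hP := sylow_card_eq hodd hG.toIsPretransitive hα hfpf P
  have S : Setting G α p P :=
    { prim := hG
      faithful := inferInstance
      card := hα
      odd := hodd
      not2 := h2
      fpf := hfpf
      cardP := hP }
  have hcl := fun χ => classify hodd P hP χ
  rcases good_or_bad S hcl with hg | hb
  · exact good_finish S hg a₀
  · exact (bad_false S hb a₀).elim

end Cfsg.Agent.Lib.Lead.W2P
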